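import Groth.Agent.VBLib.CurveDual
import Groth.Agent.VBLib.DualDeg
import Groth.Agent.ShStabLib.Simple
import Groth.Agent.ShStabLib.Noeth
import Groth.Agent.DegDevLib.Det
import Groth.Agent.SymPolyLib.Basic

/-!
# Line bundle quotients of negative degree of subsheaves of free modules
-/

set_option autoImplicit false
set_option backward.isDefEq.respectTransparency false
set_option linter.style.haveILetI false
set_option maxHeartbeats 800000

universe u

open CategoryTheory CategoryTheory.Limits AlgebraicGeometry TopologicalSpace IsLocalRing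
open Groth.Agent.PullbackMod Groth.Agent.VBLib Groth.Agent.VBLib.DualDeg

noncomputable section

namespace Groth.Agent.NegFiltLib

variable (k : Type u) [Field k] [IsAlgClosed k] {X : Scheme.{u}} [X.Over (Spec (CommRingCat.of k))]
  [IsProper (X ↘ Spec (CommRingCat.of k))] [IsIntegral X] [AlgebraicGeometry.IsNoetherian X] [IsRegCurve X]

local notation "O" => Coh.structureModule X

omit [IsAlgClosed k] [IsProper (X ↘ Spec (CommRingCat.of k))] [AlgebraicGeometry.IsIntegral X] [AlgebraicGeometry.IsNoetherian X] [IsRegCurve X] in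
theorem stalkLin_sum {M N : X.Modules} {ι : Type} (s : Finset ι) (φ : ι → (M ⟶ N)) (x : X)
    (z : M.presheaf.stalk x) : stalkLin (∑ i ∈ s, φ i) x z = ∑ i ∈ s, stalkLin (φ i) x z :=
  map_sum (AddMonoidHom.mk' (fun f : M ⟶ N => stalkLin f x z) fun f g => by
    rw [DevLib.stalkLin_add]; rfl) φ s

omit [IsAlgClosed k] [IsProper (X ↘ Spec (CommRingCat.of k))] [AlgebraicGeometry.IsIntegral X] [AlgebraicGeometry.IsNoetherian X] [IsRegCurve X]
  [X.Over (Spec (CommRingCat.of k))] [Field k] in
theorem eq_zero_of_no_sections {N : X.Modules} (h0 : ∀ s : LinSer.Sect X N, s = 0) (f : O ⟶ N) : f = 0 :=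
  SymPolyLib.hom_ext_unit ((h0 (f.app ⊤ (1 : Γ(X, ⊤)))).trans (h0 _).symm)

include k in
/-- A map to the structure sheaf which is nonzero and not surjective at some point. -/
theorem exists_nonsurjective {r : ℕ} : ∀ (m : ℕ) {N : X.Modules}, FlatMod.IsFinLocFreeOfRank (r + 1) N →
    (∀ f : O ⟶ N, f = 0) → ∀ φ : Fin m → (N ⟶ O),
      (∀ {A : X.Modules} (g : A ⟶ N), (∀ i, g ≫ φ i = 0) → g = 0) →
      ∃ ψ : N ⟶ O, ψ ≠ 0 ∧ ∃ x : X, ¬ Function.Surjective (stalkLin ψ x)
  | 0, N, hN, _, φ, hφ =>
    absurd ((IsZero.iff_id_eq_zero N).2 (hφ (𝟙 N) fun i => i.elim0)) (nonzero_of_rank k (Nat.succ_pos r) hN)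
  | m + 1, N, hN, h0, φ, hφ => by
    classical
    have hNc := isCoh_of_rank hN
    haveI := hNc.1
    let Φ : (x : X) → N.presheaf.stalk x →ₗ[X.presheaf.stalk x] (Fin (m + 1) → X.presheaf.stalk x) := fun x =>
      LinearMap.pi fun i => ((oneEquiv x).symm : _ →ₗ[X.presheaf.stalk x] _) ∘ₗ stalkLin (φ i) x
    by_cases hs : ∀ x : X, IsClosed ({x} : Set X) → Function.Surjective (Φ x)
    · let ι : N ⟶ ⨁ fun _ : Fin (m + 1) => O := biproduct.lift φ
      haveI : Mono ι := Preadditive.mono_of_cancel_zero _ fun g hg => hφ g fun i => by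
        rw [← biproduct.lift_π φ i, ← Category.assoc, hg, zero_comp]
      have hsurj : ∀ x : X, IsClosed ({x} : Set X) → Function.Surjective (stalkLin ι x) := fun x hx w => by
        obtain ⟨z, hz⟩ := hs x hx fun i =>
          (oneEquiv x).symm (stalkLin (biproduct.π (fun _ : Fin (m + 1) => O) i) x w)
        refine ⟨z, ?_⟩
        have hid : ∀ v, v = ∑ i, stalkLin (biproduct.ι (fun _ : Fin (m + 1) => O) i) x
            (stalkLin (biproduct.π (fun _ : Fin (m + 1) => O) i) x v) := fun v => by
          have e := congrArg (fun f => stalkLin f x v) (biproduct.total (f := fun _ : Fin (m + 1) => O))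
          simp only [stalkLin_id, LinearMap.id_apply] at e
          rw [stalkLin_sum] at e
          simp only [stalkLin_comp, LinearMap.comp_apply] at e
          exact e.symm
        rw [hid (stalkLin ι x z), hid w]
        refine Finset.sum_congr rfl fun i _ => congrArg _ ?_
        rw [← LinearMap.comp_apply, ← stalkLin_comp, biproduct.lift_π]
        exact (oneEquiv x).symm.injective (congrFun hz i)
      have hbc : Coh.IsCoh (⨁ fun _ : Fin (m + 1) => O) :=
        ShStabLib.isCoh_of_iso (biproduct.isoCoproduct _).symm (isCoh_of_rank (DegDevLib.isFinLocFreeOfRank_freeMod (X := X) (m + 1)))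
      obtain ⟨hC, -, -⟩ := coker_add k ι hNc hbc
      have hCz : IsZero (cokernel ι) := by
        by_contra hne
        obtain ⟨x, hx, hxc⟩ := (DevLib.isClosed_support hC).exists_closed_singleton
          (Set.nonempty_iff_ne_empty.2 fun h => hne (DevLib.isZero_of_support_empty h))
        refine hx (subsingleton_of_forall_eq 0 fun z => ?_)
        obtain ⟨y, rfl⟩ := (epi_iff_stalk (cokernel.π ι)).1 inferInstance x z
        obtain ⟨z', rfl⟩ := hsurj x hxc y
        rw [← LinearMap.comp_apply, ← stalkLin_comp, cokernel.condition, DevLib.stalkLin_zero, LinearMap.zero_apply]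
      haveI := Preadditive.epi_of_isZero_cokernel ι hCz
      haveI := isIso_of_mono_of_epi ι
      have h1 : biproduct.ι (fun _ : Fin (m + 1) => O) 0 = 0 := by
        have h := h0 (biproduct.ι (fun _ : Fin (m + 1) => O) 0 ≫ inv ι)
        rw [← cancel_mono (inv ι), zero_comp]; exact h
      have h2 : 𝟙 O = 0 := by
        rw [← biproduct.ι_π_self (fun _ : Fin (m + 1) => O) 0, h1, zero_comp]
      exact absurd ((IsZero.iff_id_eq_zero O).2 h2)
        (nonzero_of_rank k one_pos (CurveLib.isFinLocFreeOfRank_one (ParaFLib.isInvertible_structureModule (X := X))))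
    · push Not at hs
      obtain ⟨x, hxc, hx⟩ := hs
      let R := X.presheaf.stalk x
      let γ : k →+* R := (X.presheaf.germ ⊤ x trivial).hom.comp (Coh.toGlobal (X ↘ Spec (CommRingCat.of k)))
      have hγ : Function.Surjective ((residue R).comp γ) := ShStabLib.residue_toGlobal_surjective k x hxc
      letI : Algebra k (ResidueField R) := ((residue R).comp γ).toAlgebra
      let W : Submodule k (Fin (m + 1) → k) :=
        { carrier := {c | ∃ z, ∀ i, residue R (Φ x z i) = residue R (γ (c i))}
          zero_mem' := ⟨0, fun i => by simp⟩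
          add_mem' := fun {a b} ⟨za, ha⟩ ⟨zb, hb⟩ => ⟨za + zb, fun i => by simp [map_add, ha i, hb i]⟩
          smul_mem' := fun t a ⟨za, ha⟩ => ⟨γ t • za, fun i => by simp [map_mul, ha i]⟩ }
      have hW : W ≠ ⊤ := fun hW => hx (by
        rw [← LinearMap.range_eq_top]
        refine top_le_iff.1 (Submodule.le_of_le_smul_of_le_jacobson_bot (I := maximalIdeal R)
          Module.Finite.fg_top (maximalIdeal_le_jacobson _) ?_)
        intro v _
        choose c hc using fun i => hγ (residue R (v i))
        obtain ⟨z, hz⟩ : c ∈ W := hW ▸ Submodule.mem_top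
        refine Submodule.mem_sup.2 ⟨Φ x z, LinearMap.mem_range_self _ z, v - Φ x z, ?_, by abel⟩
        rw [← Finset.univ_sum_single (v - Φ x z)]
        refine Submodule.sum_mem _ fun i _ => ?_
        rw [show Pi.single i ((v - Φ x z) i) = ((v - Φ x z) i) • (Pi.single i 1 : Fin (m + 1) → R) by
          rw [← Pi.single_smul, smul_eq_mul, mul_one]]
        refine Submodule.smul_mem_smul ?_ trivial
        rw [← residue_eq_zero_iff, Pi.sub_apply, map_sub, hz i, ← (hc i)]
        exact sub_self _)
      obtain ⟨l, hl, hlW⟩ := Submodule.exists_le_ker_of_lt_top W (lt_top_iff_ne_top.2 hW)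
      let c : Fin (m + 1) → k := fun i => l (Pi.single i 1)
      have hlc : ∀ a, l a = ∑ i, a i * c i := fun a => by
        conv_lhs => rw [← Finset.univ_sum_single a]
        rw [map_sum]
        refine Finset.sum_congr rfl fun i _ => ?_
        rw [show Pi.single i (a i) = a i • (Pi.single i 1 : Fin (m + 1) → k) by
          rw [← Pi.single_smul, smul_eq_mul, mul_one], map_smul, smul_eq_mul]
      obtain ⟨j, hj⟩ : ∃ j, c j ≠ 0 := by
        by_contra h
        push Not at h
        exact hl (LinearMap.ext fun a => by rw [hlc]; simp [h])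
      let ψ : N ⟶ O := ∑ i, φ i ≫ (cst k O (c i) : O ⟶ O)
      by_cases hψ : ψ = 0
      · refine exists_nonsurjective m hN h0 (fun i => φ (j.succAbove i)) fun g hg => hφ g fun i => ?_
        rcases Fin.eq_self_or_eq_succAbove j i with rfl | ⟨i', rfl⟩
        · have h : g ≫ ψ = 0 := by rw [hψ, comp_zero]
          rw [Preadditive.comp_sum, Fin.sum_univ_succAbove _ i] at h
          simp only [← Category.assoc, hg, zero_comp, Finset.sum_const_zero, add_zero] at h
          haveI := isIso_cst k O hj
          rwa [← cancel_mono (cst k O (c i) : O ⟶ O), zero_comp]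
        · exact hg i'
      · refine ⟨ψ, hψ, x, fun hsur => ?_⟩
        obtain ⟨z, hz⟩ := hsur (oneEquiv x 1)
        have hz' : residue R (∑ i, γ (c i) * Φ x z i) = 1 := by
          rw [← map_one (residue R)]
          refine congrArg _ ((oneEquiv x).injective ?_)
          rw [← hz, map_sum, stalkLin_sum]
          refine Finset.sum_congr rfl fun i _ => ?_
          rw [stalkLin_comp, LinearMap.comp_apply, Dual.stalkLin_cst, ← smul_eq_mul, map_smul]
          show _ • oneEquiv x ((oneEquiv x).symm _) = _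
          rw [LinearEquiv.apply_symm_apply]
          rfl
        choose a ha using fun i => hγ (residue R (Φ x z i))
        have haW : a ∈ W := ⟨z, fun i => (ha i).symm⟩
        have h := hlc a
        rw [LinearMap.mem_ker.1 (hlW haW)] at h
        have h' : ((residue R).comp γ) (∑ i, a i * c i) = 1 := by
          rw [← hz', map_sum, map_sum]
          refine Finset.sum_congr rfl fun i _ => ?_
          rw [map_mul, map_mul, ha i, mul_comm]
          rfl
        rw [← h, map_zero] at h'
        exact zero_ne_one h'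

variable (hdim : topologicalKrullDim X = 1)

include k hdim in
/-- A quotient line bundle of negative degree, and the kernel. -/
theorem exists_step {r m : ℕ} {N : X.Modules} (hN : FlatMod.IsFinLocFreeOfRank (r + 1) N)
    (ι : N ⟶ FlatMod.freeMod X m) [Mono ι] (h0 : ∀ f : O ⟶ N, f = 0) :
    ∃ (K : X.Modules) (i : K ⟶ N), Mono i ∧ FlatMod.IsFinLocFreeOfRank r K ∧
      PicF.IsInvertible (cokernel i) ∧ Curv2.deg k X (cokernel i) 1 < 0 := by
  classical
  let b := (biproduct.isoCoproduct fun _ : Fin m => O)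
  let φ : Fin m → (N ⟶ O) := fun i => ι ≫ b.inv ≫ biproduct.π _ i
  obtain ⟨ψ, hψ, x, hx⟩ := exists_nonsurjective k m hN h0 φ fun g hg => by
    rw [← cancel_mono ι, zero_comp, ← cancel_mono b.inv, zero_comp]
    exact biproduct.hom_ext _ _ fun i => by rw [zero_comp, Category.assoc, Category.assoc]; exact hg i
  have hNc := isCoh_of_rank hN
  have hOr : FlatMod.IsFinLocFreeOfRank 1 O :=
    CurveLib.isFinLocFreeOfRank_one (ParaFLib.isInvertible_structureModule (X := X))
  have hOc := isCoh_of_rank hOr
  have hK := (QCohLib.isCoh_kernel_cokernel ψ hNc hOc).1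
  obtain ⟨hI, hr, -⟩ := coker_add k (kernel.ι ψ) hK hNc
  let i' : cokernel (kernel.ι ψ) ⟶ O := Abelian.factorThruCoimage ψ
  have hfac : cokernel.π (kernel.ι ψ) ≫ i' = ψ := Abelian.coimage.fac ψ
  haveI : Mono i' := inferInstanceAs (Mono (Abelian.factorThruCoimage ψ))
  have hI0 : grk (cokernel (kernel.ι ψ)) ≠ 0 := fun hz => hψ (by
    rw [← hfac, (isZero_of_mono i' hI hOr hz).eq_of_tgt (cokernel.π (kernel.ι ψ)) 0, zero_comp])
  obtain ⟨-, hO, -⟩ := coker_add k i' hI hOc
  rw [grk_of_rank hOr] at hO
  have hI1 : grk (cokernel (kernel.ι ψ)) = 1 := by omega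
  have hIr := rank_of_mono i' hI hOr
  rw [hI1] at hIr
  have hKr := rank_of_mono (kernel.ι ψ) hK hN
  rw [grk_of_rank hN, hI1] at hr
  rw [show grk (kernel ψ) = r by omega] at hKr
  refine ⟨kernel ψ, kernel.ι ψ, inferInstance, hKr, isInvertible_of_rank hIr, ?_⟩
  obtain ⟨hle, hiso⟩ := dg_le_of_mono k hdim.le i' hI hOc (by rw [grk_of_rank hOr, hI1])
  rw [dg_eq k hIr, dg_eq k hOr, CurveLib.deg_structureModule (k := k)] at hle hiso
  refine lt_of_le_of_ne hle fun he => hx ?_
  haveI := hiso he.ge
  rw [← hfac]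
  exact (epi_iff_stalk _).1 inferInstance x

include k hdim in
theorem exists_filtration : ∀ (r : ℕ) {m : ℕ} {N : X.Modules}, FlatMod.IsFinLocFreeOfRank r N →
    (ι : N ⟶ FlatMod.freeMod X m) → Mono ι → (∀ f : O ⟶ N, f = 0) →
    ∃ (M : Fin (r + 1) → X.Modules) (f : (j : Fin r) → (M j.succ ⟶ M j.castSucc)),
      Nonempty (M 0 ≅ N) ∧ IsZero (M (Fin.last r)) ∧
        ∀ j : Fin r, Mono (f j) ∧ PicF.IsInvertible (cokernel (f j)) ∧ Curv2.deg k X (cokernel (f j)) 1 < 0
  | 0, m, N, hN, _, _, _ => ⟨fun _ => N, fun j => j.elim0, ⟨Iso.refl N⟩,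
      isZero_of_mono (𝟙 N) (isCoh_of_rank hN) hN (grk_of_rank hN), fun j => j.elim0⟩
  | r + 1, m, N, hN, ι, hι, h0 => by
    obtain ⟨K, i, hi, hK, hinv, hdeg⟩ := exists_step k hdim hN ι h0
    haveI := hi
    haveI := hι
    obtain ⟨M, f, ⟨e⟩, hz, hf⟩ := exists_filtration r hK (i ≫ ι) inferInstance fun g => by
      rw [← cancel_mono i, zero_comp]; exact h0 _
    let M' : Fin (r + 1 + 1) → X.Modules := Fin.cases N M
    let f' : (j : Fin (r + 1)) → (M' j.succ ⟶ M' j.castSucc) :=
      Fin.cases (show M 0 ⟶ N from e.hom ≫ i) (fun j => show M j.succ ⟶ M j.castSucc from f j)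
    refine ⟨M', f', ⟨Iso.refl N⟩, hz, fun j => ?_⟩
    induction j using Fin.cases with
    | zero =>
      show Mono (e.hom ≫ i) ∧ PicF.IsInvertible (cokernel (e.hom ≫ i)) ∧ Curv2.deg k X (cokernel (e.hom ≫ i)) 1 < 0
      have c : cokernel i ≅ cokernel (e.hom ≫ i) := (cokernelEpiComp e.hom i).symm
      exact ⟨inferInstance, ParaFLib.isInvertible_of_iso c hinv, by rw [CurveLib.deg_iso (k := k) c.symm]; exact hdeg⟩
    | succ j => exact hf j

end Groth.Agent.NegFiltLib
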